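import Cfsg.Agent.Lib.Sq.SzG

/-!
# Groups whose element orders are those of `J₁ × J₁`: general lemmas
-/

set_option autoImplicit false

namespace H34.Sq

open H45 H69 Cfsg Subgroup
open scoped commutatorElement

universe u v

/-- the maximal element orders of `J₁ × J₁` -/
def MJ : List ℕ := [30, 42, 66, 114, 70, 110, 190, 105, 165, 285, 77, 133, 209]

/-- all element orders of `X` are element orders of `J₁ × J₁` -/
def UpJ (X : Type u) [Group X] : Prop := ∀ g : X, ∃ n ∈ MJ, orderOf g ∣ n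

/-- the three large primes -/
def Big (c : ℕ) : Prop := c = 7 ∨ c = 11 ∨ c = 19

theorem Big.prime {c : ℕ} (h : Big c) : c.Prime := by
  rcases h with rfl | rfl | rfl <;> norm_num

theorem Big.ne_two {c : ℕ} (h : Big c) : 2 ≠ c := by
  rcases h with rfl | rfl | rfl <;> norm_num

theorem Big.odd {c : ℕ} (h : Big c) : Odd c := h.prime.odd_of_ne_two h.ne_two.symm

theorem big7 : Big 7 := Or.inl rfl
theorem big11 : Big 11 := Or.inr (Or.inl rfl)
theorem big19 : Big 19 := Or.inr (Or.inr rfl)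

theorem Big.others {c : ℕ} (h : Big c) : ∃ a b, Big a ∧ Big b ∧ a ≠ b ∧ c ≠ a ∧ c ≠ b := by
  rcases h with rfl | rfl | rfl
  · exact ⟨11, 19, big11, big19, by norm_num, by norm_num, by norm_num⟩
  · exact ⟨7, 19, big7, big19, by norm_num, by norm_num, by norm_num⟩
  · exact ⟨7, 11, big7, big11, by norm_num, by norm_num, by norm_num⟩

theorem comb {G : Type u} [Group G] [Finite G] {x y : G} {a b : ℕ} (h : Commute x y)
    (ha : a ∣ orderOf x) (hb : b ∣ orderOf y) (hab : a.Coprime b) :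
    ∃ g : G, orderOf g = a * b ∧ ∀ z, Commute x z → Commute y z → Commute g z := by
  obtain ⟨x', hx, rfl⟩ := exists_ord_pow ha
  obtain ⟨y', hy, rfl⟩ := exists_ord_pow hb
  exact ⟨x' * y', (comm_of_zp h hx hy).orderOf_mul_eq_mul_orderOf_of_coprime hab, fun z h1 h2 =>
    (comm_of_zp h1 hx (mem_zpowers z)).mul_left (comm_of_zp h2 hy (mem_zpowers z))⟩

namespace UpJ

variable {X : Type u} [Group X]

theorem sub (h : UpJ X) (H : Subgroup X) : UpJ H := fun g => by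
  rw [← orderOf_coe]; exact h _

theorem surj (h : UpJ X) {Y : Type v} [Group Y] (f : X →* Y) (hf : Function.Surjective f) :
    UpJ Y := fun g => by
  obtain ⟨x, rfl⟩ := hf g
  obtain ⟨n, h1, h2⟩ := h x
  exact ⟨n, h1, (orderOf_map_dvd f x).trans h2⟩

theorem sqf (h : UpJ X) (g : X) : Squarefree (orderOf g) := by
  obtain ⟨n, h1, h2⟩ := h g
  have : ∀ n ∈ MJ, Squarefree n := by decide +kernel
  exact (this n h1).squarefree_of_dvd h2

theorem pelt [Finite X] (h : UpJ X) {p : ℕ} (hp : p.Prime) {g : X} (hg : IsPiElt {p} g) :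
    g ^ p = 1 := by
  obtain ⟨n, hn⟩ := (piNat_singleton_iff hp (orderOf_pos g).ne').1 hg
  have := h.sqf g
  rw [hn] at this
  refine orderOf_dvd_iff_pow_eq_one.1 (hn ▸ ?_)
  rcases n with _ | n
  · simp
  · rw [((Nat.squarefree_pow_iff hp.ne_one (k := n + 1) (by omega)).1 this).2, pow_one]

theorem no3 [Finite X] (h : UpJ X) {x y z : X} (a b c : ℕ) (h1 : a ∣ orderOf x)
    (h2 : b ∣ orderOf y) (h3 : c ∣ orderOf z) (c1 : Commute x y) (c2 : Commute y z)
    (c3 : Commute x z) (hab : a.Coprime b) (hc : (a * b).Coprime c)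
    (hn : ∀ n ∈ MJ, ¬ a * b * c ∣ n) : False := by
  obtain ⟨g, hg, hg'⟩ := comb c1 h1 h2 hab
  obtain ⟨k, hk, -⟩ := comb (hg' z c3 c2) hg.symm.dvd h3 hc
  obtain ⟨n, h4, h5⟩ := h k
  exact hn n h4 (hk ▸ h5)

theorem f3 [Finite X] (h : UpJ X) {x y z : X} {c d r : ℕ} (hc : Big c) (hd : Big d) (hcd : c ≠ d)
    (hr : r.Prime) (hrc : r ≠ c) (hrd : r ≠ d) (h1 : c ∣ orderOf x) (h2 : d ∣ orderOf y)
    (h3 : r ∣ orderOf z) (c1 : Commute x y) (c2 : Commute y z) (c3 : Commute x z) : False := by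
  refine h.no3 c d r h1 h2 h3 c1 c2 c3 ((Nat.coprime_primes hc.prime hd.prime).2 hcd)
    (Nat.Coprime.mul_left ((Nat.coprime_primes hc.prime hr).2 hrc.symm)
      ((Nat.coprime_primes hd.prime hr).2 hrd.symm)) fun n hn e => ?_
  have h4 : ∀ n ∈ MJ, c * d ∣ n → n = c * d := by
    rcases hc with rfl | rfl | rfl <;> rcases hd with rfl | rfl | rfl <;> first
      | exact absurd rfl hcd
      | decide
  rw [h4 n hn ((dvd_mul_right _ _).trans e)] at e
  have h5 := Nat.le_of_dvd (Nat.mul_pos hc.prime.pos hd.prime.pos) e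
  have h6 := Nat.mul_pos hc.prime.pos hd.prime.pos
  have := hr.two_le
  nlinarith

theorem noPair [Finite X] (h : UpJ X) {z : X} {H : Subgroup X} (hH : H ≤ 𝐂[z]) {c d r : ℕ}
    (hc : Big c) (hd : Big d) (hcd : c ≠ d) (hr : r.Prime) (hrc : r ≠ c) (hrd : r ≠ d)
    (h3 : r ∣ orderOf z) : ¬ Pair H c d := fun ⟨_, hx, _, hy, h1, h2, c1⟩ =>
  h.f3 hc hd hcd hr hrc hrd h1.symm.dvd h2.symm.dvd h3 c1 (comm_of_mem_cent1 (hH hy)).symm
    (comm_of_mem_cent1 (hH hx)).symm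

theorem noPair' [Finite X] (h : UpJ X) {z : X} {H : Subgroup X} (hH : H ≤ 𝐂[z]) {c d r : ℕ}
    (hc : Big c) (hd : Big d) (hcd : c ≠ d) (hr : r.Prime) (hrc : r ≠ c) (hrd : r ≠ d)
    (h3 : c ∣ orderOf z) : ¬ Pair H r d := fun ⟨_, hx, _, hy, h1, h2, c1⟩ =>
  h.f3 hc hd hcd hr hrc hrd h3 h2.symm.dvd h1.symm.dvd (comm_of_mem_cent1 (hH hy)) c1.symm
    (comm_of_mem_cent1 (hH hx))

theorem comm2 [Finite X] (h : UpJ X) {P : Subgroup X} (hP : IsPGroup 2 P) {a b : X} (ha : a ∈ P)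
    (hb : b ∈ P) : Commute a b := by
  have h1 : ∀ x ∈ P, x * x = 1 := fun x hx => by
    rw [← sq]
    exact h.pelt Nat.prime_two (((isPi_singleton_iff Nat.prime_two).2 hP).isPiElt hx)
  have h2 := h1 _ (P.mul_mem ha hb)
  calc a * b = a * (a * b * (a * b)) * b * (b * b)⁻¹ * (b⁻¹ * (a * a)⁻¹ * b) := by
        rw [h2, h1 a ha, h1 b hb]; group
    _ = _ := by rw [h1 a ha, h1 b hb]
                calc _ = (a * a) * b * a * (b * b) := by group
                  _ = _ := by rw [h1 a ha, h1 b hb]; group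

end UpJ

variable {G Q : Type u} [Group G] [Group Q]

/-- `T` contains an element of order three acting nontrivially on a `2`-subgroup -/
def A4d (T : Subgroup Q) : Prop :=
  ∃ V ≤ T, ∃ h ∈ T, IsPGroup 2 V ∧ orderOf h = 3 ∧ h ∈ 𝐍(V) ∧ h ∉ 𝐂(V)

theorem A4d.mono {T S : Subgroup Q} (h : A4d T) (hS : T ≤ S) : A4d S := by
  obtain ⟨V, h1, g, h2, h3⟩ := h
  exact ⟨V, h1.trans hS, g, hS h2, h3⟩

theorem A4d.map {R : Type v} [Group R] {R' : Type*} [Group R'] {T : Subgroup R} (h : A4d T)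
    (f : R →* R') (hf : Function.Injective f) : A4d (T.map f) := by
  obtain ⟨V, h1, g, h2, h3, h4, h5, h6⟩ := h
  refine ⟨V.map f, map_mono h1, f g, mem_map_of_mem f h2, h3.map f,
    by rwa [orderOf_injective f hf], le_normalizer_map f (mem_map_of_mem f h5), fun e => h6 ?_⟩
  intro v hv
  apply hf
  rw [map_mul, map_mul]
  exact e _ (mem_map_of_mem f hv)

theorem A4d.two [Finite Q] {T : Subgroup Q} (h : A4d T) : ∃ t ∈ T, orderOf t = 2 := by
  obtain ⟨V, h1, g, -, h3, -, -, h6⟩ := h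
  obtain ⟨t, ht, ht'⟩ := exists_ord Nat.prime_two h3 (by
    rintro rfl
    exact h6 (by rw [H69.centralizer_bot]; trivial))
  exact ⟨t, h1 ht, ht'⟩

theorem eq_of_mem_zp2 {y a : G} (hy : y * y = 1) (ha : a ∈ zpowers y) : a = 1 ∨ a = y := by
  obtain ⟨i, rfl⟩ := ha
  have h2 : y ^ (2 : ℤ) = 1 := by rw [zpow_two, hy]
  rcases Int.even_or_odd' i with ⟨j, rfl | rfl⟩
  · left; simp only [zpow_mul, h2, one_zpow]
  · right; simp only [zpow_add, zpow_mul, h2, one_zpow, zpow_one, one_mul]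

/-- an involution whose centralizer meets every Sylow subgroup of an odd normalized subgroup -/
theorem UpJ.exists_e [Finite G] (hU : UpJ G) (π : G →* Q) {T : Subgroup Q} (hT : A4d T)
    {D : Subgroup G} (hD : ∀ t ∈ T, ∃ x ∈ D, π x = t) :
    ∃ e ∈ D, orderOf e = 2 ∧ ∀ N : Subgroup G, D ≤ 𝐍(N) → Odd (Nat.card N) →
      Group.IsSolvable N → ∀ p : ℕ, p.Prime → p ∣ Nat.card N → p ∣ Nat.card ↥(N ⊓ 𝐂[e]) := by
  obtain ⟨V, hVT, h0, hh0, hV, o3, hn, hc⟩ := hT
  obtain ⟨P, hP⟩ := Sylow_exists 2 (D ⊓ V.comap π)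
  have hPV : P.map π = V := by
    have h1 : (D ⊓ V.comap π).map π = V := le_antisymm
      (map_le_iff_le_comap.2 inf_le_right) fun v hv => by
        obtain ⟨x, hx, rfl⟩ := hD v (hVT hv)
        exact mem_map_of_mem π ⟨hx, hv⟩
    have h2 := (hP.hall Nat.prime_two).map π
    rw [h1] at h2
    haveI : Finite V := h1 ▸ Finite.of_surjective _ (π.subgroupMap_surjective _)
    refine h2.eq_of_isPi ?_
    obtain ⟨n, hn⟩ := IsPGroup.iff_card.1 hV
    rw [isPi_iff, hn]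
    exact piNat_prime_pow (π := {2}) Nat.prime_two rfl n
  have hPD : P ≤ D := hP.le.trans inf_le_left
  obtain ⟨h, hhD, hhP, hh, h3⟩ : ∃ h ∈ D, h ∈ 𝐍(P) ∧ π h = h0 ∧ h ^ 3 = 1 := by
    obtain ⟨g, hgD, hg⟩ := hD h0 hh0
    have hN : D ⊓ V.comap π ⊴ D ⊓ (V ⊔ zpowers h0).comap π := by
      have := ((normalIn_sup_left (zpowers_le_of_mem hn)).comap π).inf_left
        (L := D ⊓ (V ⊔ zpowers h0).comap π) inf_le_right
      rwa [inf_assoc, inf_eq_right.2 (comap_mono le_sup_left)] at this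
    obtain ⟨d, hd, n, hn', e⟩ := (Frattini_arg Nat.prime_two hN hP).exists_mul
      (x := g) ⟨hgD, mem_comap.2 (by rw [hg]; exact mem_sup_right (mem_zpowers h0))⟩
    obtain ⟨p, hp, e'⟩ := hPV.ge hd.2
    have e1 : π (p * n) = h0 := by rw [← hg, e, map_mul, map_mul, e']
    haveI : Finite π.range := Finite.of_surjective _ π.rangeRestrict_surjective
    obtain ⟨x, hx, hx1, hx2⟩ := lift_elt π.rangeRestrict (π := {3}) (p * n) (by
      rw [IsPiElt, ← orderOf_coe, MonoidHom.coe_rangeRestrict, e1, o3]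
      exact (piNat_prime (π := {3}) Nat.prime_three).2 rfl)
    exact ⟨x, zpowers_le_of_mem (D.mul_mem (hPD hp) hn'.1.1) hx,
      zpowers_le_of_mem (mul_mem (le_normalizer hp) hn'.2) hx,
      (congrArg Subtype.val hx1).trans e1, hU.pelt Nat.prime_three hx2⟩
  have hcj : ∀ p ∈ P, h * p * h⁻¹ ∈ P := fun p hp => conj_mem_of_mem_normalizer hhP hp
  have hsq : ∀ p ∈ P, p * p = 1 := fun x hx => by
    rw [← sq]
    exact hU.pelt Nat.prime_two (((isPi_singleton_iff Nat.prime_two).2 hP.isP).isPiElt hx)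
  obtain ⟨p, hp, hph⟩ : ∃ p ∈ P, p * (h * p * h⁻¹) ≠ 1 := by
    by_contra hne
    push Not at hne
    refine hc fun v hv => ?_
    obtain ⟨p, hp, rfl⟩ := hPV.ge hv
    have : h * p * h⁻¹ = p := mul_left_cancel ((hne p hp).trans (hsq p hp).symm)
    rw [← hh, ← map_mul, ← map_mul, mul_inv_eq_iff_eq_mul.1 this]
  set e := p * (h * p * h⁻¹) with he
  have heP : e ∈ P := P.mul_mem hp (hcj p hp)
  have hord : ∀ {a : G}, a ∈ P → a ≠ 1 → orderOf a = 2 := fun ha a1 =>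
    orderOf_eq_prime (by rw [sq, hsq _ ha]) a1
  have hh3 : h * h = h⁻¹ := by rw [eq_inv_iff_mul_eq_one, ← h3, pow_succ, sq]
  have hmul : e * (h * e * h⁻¹) = h⁻¹ * e * h := by
    have e1 : h * e * h⁻¹ = h * p * h⁻¹ * (h⁻¹ * p * h) := by
      rw [he]
      calc _ = h * p * h⁻¹ * (h * h * p * (h * h)⁻¹) := by group
        _ = _ := by rw [hh3, inv_inv]
    have e2 : h⁻¹ * p * h ∈ P := by simpa using conj_mem_of_mem_normalizer (inv_mem hhP) hp
    rw [e1, he]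
    calc _ = p * (h * p * h⁻¹ * (h * p * h⁻¹)) * (h⁻¹ * p * h) := by group
      _ = p * (h⁻¹ * p * h) := by rw [hsq _ (hcj p hp), mul_one]
      _ = h⁻¹ * p * h * p := (hU.comm2 hP.isP hp e2).eq
      _ = _ := by group
  have hY : PP 2 (zpowers e ⊔ zpowers (h * e * h⁻¹)) := by
    refine exists_PP Nat.prime_two (hord heP hph) (by rw [ord_conj, hord heP hph])
      (hU.comm2 hP.isP heP (hcj e heP)) fun hm => ?_
    rcases eq_of_mem_zp2 (hsq e heP) hm with e1 | e1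
    · exact hph (conj_eq_one_iff.1 e1)
    · rw [e1, hsq e heP] at hmul
      exact hph (by simpa using (conj_eq_one_iff (a := h⁻¹) (b := e)).1 (by simpa using hmul.symm))
  have hYP : zpowers e ⊔ zpowers (h * e * h⁻¹) ≤ P :=
    sup_le (zpowers_le_of_mem heP) (zpowers_le_of_mem (hcj e heP))
  have htr : ∀ a ∈ zpowers e ⊔ zpowers (h * e * h⁻¹), a ≠ 1 → ∃ g ∈ D, g * a * g⁻¹ = e := by
    intro a ha a1
    obtain ⟨b, hb, c, hc, rfl⟩ := (mulEq_of_cent (A := zpowers e) (B := zpowers (h * e * h⁻¹)) (by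
      rw [cent_cycle]; exact zp_le_cent1 (hU.comm2 hP.isP heP (hcj e heP)))).exists_mul ha
    rcases eq_of_mem_zp2 (hsq e heP) hb with rfl | rfl <;>
      rcases eq_of_mem_zp2 (hsq _ (hcj e heP)) hc with rfl | rfl
    · exact absurd (one_mul 1) a1
    · exact ⟨h⁻¹, D.inv_mem hhD, by group⟩
    · exact ⟨1, D.one_mem, by group⟩
    · exact ⟨h, hhD, by rw [hmul]; group⟩
  refine ⟨e, hPD heP, hord heP hph, fun N hN ho hs r hr hd => ?_⟩
  obtain ⟨S, hS, hn⟩ := coprime_Hall_exists {r} (M := N) (hYP.trans (hPD.trans hN))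
    (coprime_of_isPGroup_of_not_dvd Nat.prime_two hY.pg ho.not_two_dvd_nat).symm hs
  have hS' := hS.syl hr
  obtain ⟨a, ha, ha2, h1⟩ := hY.fix' Nat.prime_two hn
    (fun h => ho.not_two_dvd_nat (h.trans (card_dvd_of_le hS.le))) (hS'.ne_bot ⟨hr, hd⟩)
  obtain ⟨v, hv, hv'⟩ := exists_ord hr (pgroupS hS'.isP inf_le_left) h1
  obtain ⟨g, hg, e1⟩ := htr a ha (ord_ne_one Nat.prime_two ha2)
  rw [← hv', ← ord_conj v g, ← e1]
  refine orderOf_dvd_natCard _ ⟨conj_mem_of_mem_normalizer (hN hg) (hS.le hv.1),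
    mem_cent1_iff.2 ?_⟩
  have := mem_cent1_iff.1 hv.2
  calc g * v * g⁻¹ * (g * a * g⁻¹) = g * (v * a) * g⁻¹ := by group
    _ = _ := by rw [this]; group

theorem cover_of_mulEq {π : G →* Q} {T : Subgroup Q} {D N B : Subgroup G} (h : MulEq N B D)
    (hN : N ≤ π.ker) (hD : ∀ t ∈ T, ∃ x ∈ D, π x = t) : ∀ t ∈ T, ∃ x ∈ B, π x = t := by
  intro t ht
  obtain ⟨x, hx, rfl⟩ := hD t ht
  obtain ⟨n, hn, b, hb, rfl⟩ := h.exists_mul hx
  exact ⟨b, hb, by rw [map_mul, hN hn, one_mul]⟩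

/-- the Frattini trick -/
theorem UpJ.pair2 [Finite G] (hU : UpJ G) (π : G →* Q) {T : Subgroup Q} (hT : A4d T)
    {D N : Subgroup G} (hD : ∀ t ∈ T, ∃ x ∈ D, π x = t) (hN : N ⊴ D) (hk : N ≤ π.ker) {b : ℕ}
    (hb : b.Prime) (hb2 : b ≠ 2) (hd : b ∣ Nat.card N) : Pair D 2 b := by
  obtain ⟨P, hP⟩ := Sylow_exists b N
  obtain ⟨e, he, he2, h⟩ := hU.exists_e π hT (cover_of_mulEq (Frattini_arg hb hN hP) hk hD)
  obtain ⟨y, hy, hy'⟩ := exists_ord' hb (h P inf_le_right (odd_of_pg hb hb2 hP.isP)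
    (pgroup_sol hb hP.isP) b hb (by
      obtain ⟨v, hv, hv'⟩ := exists_ord hb hP.isP (hP.ne_bot ⟨hb, hd⟩)
      exact hv' ▸ orderOf_dvd_natCard P hv))
  exact ⟨e, he.1, y, hN.le (hP.le hy.1), he2, hy', comm_of_mem_cent1 hy.2⟩

theorem cover_cent' [Finite G] {π : G →* Q} {T : Subgroup Q} {D : Subgroup G} {x : G} (hx : x ∈ D)
    (hco : (orderOf x).Coprime (Nat.card π.ker)) (hT : T ≤ 𝐂[π x])
    (hD : ∀ t ∈ T, ∃ g ∈ D, π g = t) : ∀ t ∈ T, ∃ g ∈ D ⊓ 𝐂[x], π g = t := by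
  intro t ht
  obtain ⟨g, hg, rfl⟩ := hD t ht
  obtain ⟨n, hn, h⟩ := lift_cent (M := π.ker ⊓ D) (w := x) (g := g)
    ((normalIn_inf_of_norm' le_normalizer_of_normal).norm hx)
    (hco.coprime_dvd_right (card_dvd_of_le inf_le_left)) ⟨MonoidHom.mem_ker.2 (by
      rw [map_commutatorElement, commutatorElement_eq_one_iff_commute]
      exact (comm_of_mem_cent1 (hT ht)).symm), der_le D (commutator_mem_commutator hg hx)⟩
  exact ⟨n * g, ⟨D.mul_mem hn.2 hg, h⟩, by rw [map_mul, hn.1, one_mul]⟩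

/-- product of the conjugates of `t` by `g, …, g ^ n` -/
def cprod (g t : Q) : ℕ → Q
  | 0 => 1
  | n + 1 => cprod g t n * (g ^ (n + 1) * t * (g ^ (n + 1))⁻¹)

theorem cprod_succ' (g t : Q) (n : ℕ) :
    cprod g t (n + 1) = g * (t * cprod g t n) * g⁻¹ := by
  induction n with
  | zero => simp [cprod]
  | succ n ih =>
    have e : cprod g t (n + 1) = cprod g t n * (g ^ (n + 1) * t * (g ^ (n + 1))⁻¹) := rfl
    calc _ = cprod g t (n + 1) * (g ^ (n + 1 + 1) * t * (g ^ (n + 1 + 1))⁻¹) := rfl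
      _ = g * (t * cprod g t n) * g⁻¹ * (g ^ (n + 1 + 1) * t * (g ^ (n + 1 + 1))⁻¹) := by rw [ih]
      _ = _ := by rw [e]; group

/-- the diagonal subgroup of a family of commuting conjugates -/
theorem exists_diag {T : Subgroup Q} {g : Q} {l : ℕ} (hZ : T ⊓ 𝐂(T) = ⊥)
    (h1 : ∀ i, 0 < i → i ≤ l → ∀ t ∈ T, g ^ i * t * (g ^ i)⁻¹ ∈ 𝐂(T)) (h2 : g ^ (l + 1) ∈ 𝐂(T)) :
    ∃ δ : T →* Q, Function.Injective δ ∧ δ.range ≤ 𝐂[g] := by
  have hC : ∀ t ∈ T, ∀ n ≤ l, cprod g t n ∈ 𝐂(T) := by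
    intro t ht n hn
    induction n with
    | zero => exact one_mem _
    | succ n ih => exact mul_mem (ih (by omega)) (h1 _ (by omega) hn t ht)
  have hcm : ∀ s ∈ T, ∀ t ∈ T, ∀ j ≤ l, ∀ n < j,
      Commute (cprod g t n) (g ^ j * s * (g ^ j)⁻¹) := by
    intro s hs t ht j hj n hn
    induction n with
    | zero => exact Commute.one_left _
    | succ n ih =>
      refine (ih (by omega)).mul_left ?_
      obtain ⟨d, rfl⟩ := Nat.exists_eq_add_of_lt hn
      have := (comm_of_mem_cent (h1 (d + 1) (by omega) (by omega) s hs) ht).symm.map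
        (MulAut.conj (g ^ (n + 1)))
      simp only [MulAut.conj_apply] at this
      rwa [show g ^ (n + 1) * (g ^ (d + 1) * s * (g ^ (d + 1))⁻¹) * (g ^ (n + 1))⁻¹ =
        g ^ (n + 1 + d + 1) * s * (g ^ (n + 1 + d + 1))⁻¹ by group] at this
  have hmul : ∀ s ∈ T, ∀ t ∈ T, ∀ n ≤ l, cprod g (s * t) n = cprod g s n * cprod g t n := by
    intro s hs t ht n hn
    induction n with
    | zero => simp [cprod]
    | succ n ih =>
      simp only [cprod]
      rw [ih (by omega)]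
      have := (hcm s hs t ht (n + 1) hn n (by omega)).eq
      calc _ = cprod g s n * (cprod g t n * (g ^ (n + 1) * s * (g ^ (n + 1))⁻¹)) *
            (g ^ (n + 1) * t * (g ^ (n + 1))⁻¹) := by group
        _ = _ := by rw [this]; group
  refine ⟨MonoidHom.mk' (fun t => t * cprod g t l) fun s t => ?_, ?_, ?_⟩
  · rw [coe_mul, hmul s s.2 t t.2 l le_rfl]
    have := (comm_of_mem_cent (hC s s.2 l le_rfl) t.2).eq
    calc _ = s * (t * cprod g s l) * cprod g t l := by group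
      _ = _ := by rw [← this]; group
  · rw [injective_iff_map_eq_one]
    intro t ht
    have h3 : (t : Q) ∈ T ⊓ 𝐂(T) :=
      ⟨t.2, (eq_inv_of_mul_eq_one_left ht : (t : Q) = (cprod g t l)⁻¹) ▸
        𝐂(T).inv_mem (hC t t.2 l le_rfl)⟩
    rw [hZ] at h3
    exact Subtype.ext h3
  · rintro _ ⟨t, rfl⟩
    refine mem_cent1_iff.2 ?_
    change t * cprod g t l * g = g * (t * cprod g t l)
    have h3 := cprod_succ' g t l
    rw [cprod, (comm_of_mem_cent h2 t.2).eq, mul_inv_cancel_right,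
      (comm_of_mem_cent (hC t t.2 l le_rfl) t.2).eq] at h3
    exact eq_mul_inv_iff_mul_eq.1 h3

end H34.Sq
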